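import Groth.Agent.Lib.LocNoeth.Space
import Mathlib.AlgebraicGeometry.Noetherian
import Mathlib.AlgebraicGeometry.Stalk
import Mathlib.AlgebraicGeometry.Morphisms.QuasiCompact
import Mathlib.AlgebraicGeometry.Morphisms.Preimmersion
import Mathlib.RingTheory.Ideal.MinimalPrime.Localization

/-!
# Irreducible components of schemes, local rings, maximal points of images
-/

universe u

open AlgebraicGeometry CategoryTheory TopologicalSpace Topology Set

namespace GrothLib.LocNoeth

variable {X Y : Scheme.{u}}

lemma isLocNoeth (X : Scheme.{u}) [IsLocallyNoetherian X] : IsLocNoeth (X : Type u) := by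
  intro x
  obtain ⟨_, ⟨U, hU, rfl⟩, hxU, -⟩ :=
    X.isBasis_affineOpens.exists_subset_of_mem_open (Set.mem_univ x) isOpen_univ
  have := IsLocallyNoetherian.component_noetherian ⟨U, hU⟩
  exact ⟨U, U.isOpen.mem_nhds hxU, noetherianSpace_of_isAffineOpen U hU⟩

/-- The nilradical of `O_x` is prime iff `x` lies on a single irreducible component. -/
lemma nilradical_isPrime_iff (X : Scheme.{u}) (x : X) :
    (nilradical (X.presheaf.stalk x)).IsPrime ↔
      ∀ Z ∈ irreducibleComponents (X : Type u), ∀ W ∈ irreducibleComponents (X : Type u),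
        x ∈ Z → x ∈ W → Z = W := by
  rw [← PrimeSpectrum.irreducibleSpace_iff_isPrime_nilradical, irreducibleSpace_def]
  have himg : X.fromSpecStalk x '' Set.univ = {y | y ⤳ x} := by
    rw [Set.image_univ]; exact Scheme.range_fromSpecStalk
  constructor
  · intro h Z hZ W hW hxZ hxW
    have hS : IsIrreducible {y : X | y ⤳ x} := by
      rw [← himg]
      exact IsIrreducible.image h _ (X.fromSpecStalk x).continuous.continuousOn
    obtain ⟨T, hT, hST⟩ := exists_mem_irreducibleComponents_subset_of_isIrreducible _ hS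
    have key : ∀ Z' ∈ irreducibleComponents (X : Type u), x ∈ Z' → Z' = T := by
      intro Z' hZ' hx'
      obtain ⟨η, hη⟩ := QuasiSober.sober hZ'.1 (isClosed_of_mem_irreducibleComponents _ hZ')
      have h' : Z' ⊆ T :=
        (hη.mem_closed_set_iff (isClosed_of_mem_irreducibleComponents _ hT)).mp
          (hST (hη.specializes hx'))
      exact subset_antisymm h' (hZ'.2 hT.1 h')
    rw [key Z hZ hxZ, key W hW hxW]
  · intro h
    obtain ⟨η, hη⟩ := QuasiSober.sober (isIrreducible_irreducibleComponent (x := x))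
      isClosed_irreducibleComponent
    have hmem : η ⤳ x := hη.specializes mem_irreducibleComponent
    have hsub : {y : X | y ⤳ x} ⊆ closure {η} := by
      intro y hy
      rw [hη.def, ← h _ (irreducibleComponent_mem_irreducibleComponents y) _
        (irreducibleComponent_mem_irreducibleComponents x)
        ((hy : y ⤳ x).mem_closed isClosed_irreducibleComponent mem_irreducibleComponent)
        mem_irreducibleComponent]
      exact mem_irreducibleComponent
    obtain ⟨p, hp⟩ : η ∈ Set.range (X.fromSpecStalk x) := by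
      rw [Scheme.range_fromSpecStalk]; exact hmem
    have hgen : closure ({p} : Set (Spec (X.presheaf.stalk x))) = Set.univ := by
      refine Set.eq_univ_of_forall fun q => ?_
      rw [(X.fromSpecStalk x).isEmbedding.closure_eq_preimage_closure_image, Set.image_singleton, hp]
      exact hsub (by rw [← himg]; exact ⟨q, trivial, rfl⟩)
    show IsIrreducible (Set.univ : Set (Spec (X.presheaf.stalk x)))
    rw [← hgen]
    exact isIrreducible_singleton.closure

/-- An irreducible open neighbourhood of a point on a single component. -/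
lemma exists_irreducible_nhd [IsLocallyNoetherian X] (x : X)
    (hx : (nilradical (X.presheaf.stalk x)).IsPrime) :
    ∃ U : X.Opens, x ∈ U ∧ IsIrreducible (U : Set X) := by
  rw [nilradical_isPrime_iff] at hx
  set Z := irreducibleComponent x
  have hZ := irreducibleComponent_mem_irreducibleComponents x
  have hcl : IsClosed (⋃₀ (irreducibleComponents (X : Type u) \ {Z})) :=
    (isLocNoeth X).isClosed_sUnion _ sdiff_subset
  refine ⟨⟨_, hcl.isOpen_compl⟩, ?_, ?_⟩
  · rintro ⟨W, ⟨hW, hne⟩, hxW⟩
    exact hne (hx W hW Z hZ hxW mem_irreducibleComponent)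
  · show IsIrreducible (⋃₀ (irreducibleComponents (X : Type u) \ {Z}))ᶜ
    refine hZ.1.2.subset_irreducible ⟨x, ?_⟩ hcl.isOpen_compl subset_rfl ?_
    · rintro ⟨W, ⟨hW, hne⟩, hxW⟩
      exact hne (hx W hW Z hZ hxW mem_irreducibleComponent)
    · intro y hy
      by_contra hyZ
      exact hy ⟨_, ⟨irreducibleComponent_mem_irreducibleComponents y,
        fun he => hyZ (show y ∈ Z by
          rw [← (show irreducibleComponent y = Z from he)]; exact mem_irreducibleComponent)⟩,
        mem_irreducibleComponent⟩

/-- A reduced open neighbourhood of a point with reduced local ring. -/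
lemma exists_reduced_nhd [IsLocallyNoetherian X] (x : X)
    [_root_.IsReduced (X.presheaf.stalk x)] :
    ∃ U : X.Opens, x ∈ U ∧ AlgebraicGeometry.IsReduced (U : Scheme.{u}) := by
  obtain ⟨_, ⟨U, hU, rfl⟩, hxU, -⟩ :=
    X.isBasis_affineOpens.exists_subset_of_mem_open (Set.mem_univ x) isOpen_univ
  have := IsLocallyNoetherian.component_noetherian ⟨U, hU⟩
  obtain ⟨G, hG⟩ := (IsNoetherian.noetherian (nilradical Γ(X, U)))
  have hgerm : ∀ a ∈ G, ∃ (V : X.Opens) (h : V ≤ U), x ∈ V ∧ (X.presheaf.map (homOfLE h).op).hom a = 0 := by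
    intro a ha
    have ha' : IsNilpotent a := by
      rw [← mem_nilradical, ← hG]; exact Submodule.subset_span ha
    have h0 : X.presheaf.germ U x hxU a = X.presheaf.germ U x hxU 0 := by
      rw [map_zero]; exact (ha'.map (X.presheaf.germ U x hxU).hom).eq_zero
    obtain ⟨V, hxV, iU, iV, he⟩ := X.presheaf.germ_eq x hxU hxU a 0 h0
    refine ⟨V, iU.le, hxV, ?_⟩
    rw [map_zero] at he
    exact he
  choose V hVU hxV hV using hgerm
  let W : X.Opens := U ⊓ ⟨⋂ a : G, (V a.1 a.2 : Set X),
    isOpen_iInter_of_finite fun a => (V a.1 a.2).isOpen⟩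
  have hxW : x ∈ W := ⟨hxU, Set.mem_iInter.mpr fun a => hxV a.1 a.2⟩
  obtain ⟨s, hsW, hxs⟩ := hU.exists_basicOpen_le ⟨x, hxW⟩ hxU
  refine ⟨X.basicOpen s, hxs, ?_⟩
  have hs : _root_.IsReduced Γ(X, X.basicOpen s) := by
    have hloc : IsLocalization.Away s Γ(X, X.basicOpen s) := hU.isLocalization_basicOpen s
    have hkill : ∀ b ∈ nilradical Γ(X, U), algebraMap Γ(X, U) Γ(X, X.basicOpen s) b = 0 := by
      have h : nilradical Γ(X, U) ≤ RingHom.ker (algebraMap Γ(X, U) Γ(X, X.basicOpen s)) := by
        rw [← hG]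
        refine Submodule.span_le.mpr fun a ha => ?_
        have hle : X.basicOpen s ≤ V a ha :=
          fun z hz => Set.mem_iInter.mp (hsW hz).2 ⟨a, ha⟩
        show (X.presheaf.map (homOfLE (X.basicOpen_le s)).op).hom a = 0
        have := congrArg (X.presheaf.map (homOfLE hle).op).hom (hV a ha)
        rw [map_zero, ← CommRingCat.comp_apply, ← X.presheaf.map_comp] at this
        exact this
      exact fun b hb => h hb
    refine ⟨fun z hz => ?_⟩
    obtain ⟨n, hn⟩ := hz
    obtain ⟨⟨b, t⟩, hb⟩ := IsLocalization.surj (Submonoid.powers s) z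
    have hunit : IsUnit (algebraMap Γ(X, U) Γ(X, X.basicOpen s) t) := IsLocalization.map_units _ t
    rw [← hunit.mul_left_eq_zero, hb]
    simp only at hb ⊢
    obtain ⟨⟨m, hm⟩, hm'⟩ := (IsLocalization.map_eq_zero_iff (Submonoid.powers s)
      Γ(X, X.basicOpen s) (b ^ (n + 1))).mp (by rw [map_pow, ← hb, mul_pow, pow_succ z, hn]; simp)
    have hmb : IsNilpotent (m * b) := by
      refine ⟨n + 1, ?_⟩
      rw [mul_pow, pow_succ' m, mul_assoc, mul_left_comm]
      rw [show m * b ^ (n + 1) = 0 from hm', mul_zero]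
    have h2 := hkill _ (mem_nilradical.mpr hmb)
    rw [map_mul] at h2
    exact (IsLocalization.map_units Γ(X, X.basicOpen s) (⟨m, hm⟩ : Submonoid.powers s)).mul_right_eq_zero.mp h2
  have : IsAffine (X.basicOpen s : Scheme.{u}) := hU.basicOpen s
  have : _root_.IsReduced Γ((X.basicOpen s : Scheme.{u}), ⊤) :=
    isReduced_of_injective (X.basicOpen s).topIso.hom.hom
      (X.basicOpen s).topIso.commRingCatIsoToRingEquiv.injective
  exact isReduced_of_isAffine_isReduced _

/-- The closure of the image of a quasi-compact morphism consists of specializations of image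
points. -/
lemma exists_specializes_of_mem_closure_range (f : X ⟶ Y) [QuasiCompact f] {y : Y}
    (hy : y ∈ closure (Set.range f)) : ∃ x : X, f x ⤳ y := by
  wlog hY : ∃ R, Y = Spec R generalizing X Y
  · let 𝒰 := Y.affineCover
    obtain ⟨i, z, rfl⟩ := 𝒰.exists_eq y
    have inst : QuasiCompact (𝒰.pullbackHom f i) := MorphismProperty.pullback_snd _ _ inferInstance
    have hz : z ∈ closure (Set.range (𝒰.pullbackHom f i)) := by
      rw [show Set.range (𝒰.pullbackHom f i) = 𝒰.f i ⁻¹' Set.range f from
        Scheme.Pullback.range_snd f (𝒰.f i)]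
      exact (𝒰.f i).isOpenEmbedding.isOpenMap.preimage_closure_subset_closure_preimage hy
    obtain ⟨x, hx⟩ := this (𝒰.pullbackHom f i) hz ⟨_, rfl⟩
    refine ⟨(𝒰.pullback₁ f).f i x, ?_⟩
    have := hx.map (𝒰.f i).continuous
    rwa [← Scheme.Hom.comp_apply, 𝒰.pullbackHom_map, Scheme.Hom.comp_apply] at this
  obtain ⟨S, rfl⟩ := hY
  obtain ⟨R, g, hg⟩ := compactSpace_iff_exists.mp (QuasiCompact.compactSpace_of_compactSpace f)
  obtain ⟨φ, hφ⟩ := Spec.map_surjective (g ≫ f)
  have hr : Set.range f = Set.range (PrimeSpectrum.comap φ.hom) := by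
    rw [← hg.range_comp f]
    exact (congrArg (fun k : Spec R ⟶ Spec S => Set.range k) hφ).symm
  rw [hr] at hy
  replace hy : RingHom.ker φ.hom ≤ y.asIdeal :=
    ((PrimeSpectrum.closure_range_comap φ.hom).le hy :)
  obtain ⟨q, hq, hqy⟩ := Ideal.exists_minimalPrimes_le (I := RingHom.ker φ.hom) hy
  obtain ⟨q', hq', -, hq''⟩ :=
    Ideal.exists_comap_eq_of_mem_minimalPrimes φ.hom (I := ⊥) q (by rwa [← RingHom.ker_eq_comap_bot])
  refine ⟨g (⟨q', hq'⟩ : PrimeSpectrum R), ?_⟩
  rw [← Scheme.Hom.comp_apply, ← hφ]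
  exact (PrimeSpectrum.le_iff_specializes (PrimeSpectrum.comap φ.hom ⟨q', hq'⟩) y).mp
    (show Ideal.comap φ.hom q' ≤ y.asIdeal from hq''.le.trans hqy)

/-- A maximal point in the closure of the image of a quasi-compact morphism is in the image. -/
lemma mem_range_of_maximal (f : X ⟶ Y) [QuasiCompact f] {y : Y}
    (hy : closure {y} ∈ irreducibleComponents (Y : Type u)) (hy' : y ∈ closure (Set.range f)) :
    y ∈ Set.range f := by
  obtain ⟨x, hx⟩ := exists_specializes_of_mem_closure_range f hy'
  have h1 : closure ({y} : Set Y) ⊆ closure {f x} := hx.closure_subset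
  have h2 := hy.2 isIrreducible_singleton.closure h1
  exact ⟨x, ((specializes_iff_closure_subset.mpr h1).antisymm
    (specializes_iff_closure_subset.mpr h2)).eq⟩

/-- Every point of a scheme is a specialization of a maximal point. -/
lemma exists_maximal_specializes (x : X) :
    ∃ η : X, closure {η} ∈ irreducibleComponents (X : Type u) ∧ η ⤳ x := by
  obtain ⟨η, hη⟩ := QuasiSober.sober (isIrreducible_irreducibleComponent (x := x))
    isClosed_irreducibleComponent
  exact ⟨η, by rw [hη.def]; exact irreducibleComponent_mem_irreducibleComponents x,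
    hη.specializes mem_irreducibleComponent⟩

end GrothLib.LocNoeth
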