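import Mathlib.Topology.NoetherianSpace
import Mathlib.Topology.Irreducible
import Mathlib.Topology.LocallyFinite
import Mathlib.Topology.Connected.LocallyConnected
import Mathlib.Topology.Connected.Clopen

/-!
# Topological spaces in which every point has a Noetherian neighbourhood
-/

universe u

open TopologicalSpace Topology Set

namespace GrothLib.LocNoeth

variable {X : Type u} [TopologicalSpace X]

/-- Every point has a Noetherian neighbourhood. -/
def IsLocNoeth (X : Type u) [TopologicalSpace X] : Prop :=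
  ∀ x : X, ∃ U ∈ nhds x, NoetherianSpace U

lemma IsLocNoeth.exists_open (hX : IsLocNoeth X) (x : X) :
    ∃ U : Set X, IsOpen U ∧ x ∈ U ∧ NoetherianSpace U := by
  obtain ⟨U, hU, hN⟩ := hX x
  exact ⟨interior U, isOpen_interior, mem_interior_iff_mem_nhds.mpr hU,
    NoetherianSpace.of_subset interior_subset⟩

lemma IsLocNoeth.subtype (hX : IsLocNoeth X) (F : Set X) : IsLocNoeth F := by
  intro x
  obtain ⟨U, hU, hxU, hN⟩ := hX.exists_open x.1
  refine ⟨Subtype.val ⁻¹' U, (hU.preimage continuous_subtype_val).mem_nhds hxU, ?_⟩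
  exact Topology.IsInducing.noetherianSpace
    (i := fun z : (Subtype.val ⁻¹' U : Set F) => (⟨z.1.1, z.2⟩ : U))
    ((IsInducing.subtypeVal.comp IsInducing.subtypeVal).codRestrict fun z => z.2)

lemma finite_components_meeting (U : Set X) (hU : IsOpen U) [NoetherianSpace U] :
    {Z ∈ irreducibleComponents X | (Z ∩ U).Nonempty}.Finite := by
  have hemb : IsOpenEmbedding (Subtype.val : U → X) := hU.isOpenEmbedding_subtypeVal
  refine Set.Finite.of_finite_image (f := fun Z => (Subtype.val ⁻¹' Z : Set U))
    ((NoetherianSpace.finite_irreducibleComponents (α := U)).subset ?_) ?_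
  · rintro _ ⟨Z, ⟨hZ, hne⟩, rfl⟩
    exact preimage_mem_irreducibleComponents hZ hemb (by simpa using hne)
  · rintro Z ⟨hZ, hne⟩ W ⟨hW, hne'⟩ heq
    have h1 : ∀ T ∈ irreducibleComponents X, (T ∩ U).Nonempty →
        closure (Subtype.val '' (Subtype.val ⁻¹' T : Set U)) = T := by
      intro T hT ⟨t, ht, htU⟩
      exact closure_image_preimage_of_isPreirreducible Subtype.val hemb.isOpenMap T
        ⟨⟨t, htU⟩, ht⟩ hT.1.2 (isClosed_of_mem_irreducibleComponents T hT)
    calc Z = _ := (h1 Z hZ hne).symm
      _ = _ := by simp only at heq; rw [heq]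
      _ = W := h1 W hW hne'

lemma IsLocNoeth.locallyFinite (hX : IsLocNoeth X) :
    LocallyFinite (fun Z : irreducibleComponents X => (Z : Set X)) := by
  intro x
  obtain ⟨U, hU, hxU, hN⟩ := hX.exists_open x
  refine ⟨U, hU.mem_nhds hxU, ?_⟩
  refine Set.Finite.of_finite_image (f := Subtype.val)
    ((finite_components_meeting U hU).subset ?_) Subtype.val_injective.injOn
  rintro _ ⟨Z, hZ, rfl⟩
  exact ⟨Z.2, hZ⟩

lemma IsLocNoeth.isClosed_sUnion (hX : IsLocNoeth X) (S : Set (Set X))
    (hS : S ⊆ irreducibleComponents X) : IsClosed (⋃₀ S) := by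
  have : ⋃₀ S = ⋃ Z : {Z : irreducibleComponents X // (Z : Set X) ∈ S}, (Z.1 : Set X) := by
    ext x
    simp only [mem_sUnion, mem_iUnion, Subtype.exists, exists_prop]
    exact ⟨fun ⟨Z, h, hx⟩ => ⟨Z, hS h, h, hx⟩, fun ⟨Z, _, h, hx⟩ => ⟨Z, h, hx⟩⟩
  rw [this]
  exact (hX.locallyFinite.comp_injective Subtype.val_injective).isClosed_iUnion
    fun Z => isClosed_of_mem_irreducibleComponents _ Z.1.2

lemma IsLocNoeth.isOpen_connectedComponent (hX : IsLocNoeth X) (x : X) :
    IsOpen (connectedComponent x) := by
  have h : (connectedComponent x)ᶜ =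
      ⋃₀ {Z ∈ irreducibleComponents X | Disjoint Z (connectedComponent x)} := by
    ext y
    constructor
    · intro hy
      refine ⟨_, ⟨irreducibleComponent_mem_irreducibleComponents y, ?_⟩, mem_irreducibleComponent⟩
      rw [Set.disjoint_left]
      intro z hz hzx
      refine hy ?_
      rw [connectedComponent_eq hzx]
      exact (isIrreducible_irreducibleComponent.isConnected).subset_connectedComponent hz
        mem_irreducibleComponent
    · rintro ⟨Z, ⟨-, hZ⟩, hyZ⟩
      exact Set.disjoint_left.mp hZ hyZ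
  rw [← isClosed_compl_iff, h]
  exact hX.isClosed_sUnion _ (fun Z hZ => hZ.1)

lemma IsLocNoeth.locallyConnectedSpace (hX : IsLocNoeth X) : LocallyConnectedSpace X := by
  rw [locallyConnectedSpace_iff_connectedComponentIn_open]
  intro F hF x hx
  rw [connectedComponentIn_eq_image hx]
  exact hF.isOpenMap_subtype_val _ ((hX.subtype F).isOpen_connectedComponent _)

/-- Distinct open irreducible components are disjoint. -/
lemma pairwiseDisjoint_of_isOpen (h : ∀ Z ∈ irreducibleComponents X, IsOpen Z) :
    (irreducibleComponents X).PairwiseDisjoint id := by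
  intro Z hZ W hW hne
  rw [Function.onFun, id, id, Set.disjoint_iff_inter_eq_empty]
  by_contra hne'
  apply hne
  have h1 : Z ⊆ W := by
    refine (subset_closure_inter_of_isPreirreducible_of_isOpen hZ.1.2 (h W hW)
      (Set.nonempty_iff_ne_empty.mpr hne')).trans ?_
    exact closure_minimal inter_subset_right (isClosed_of_mem_irreducibleComponents W hW)
  exact subset_antisymm h1 (hZ.2 hW.1 h1)

lemma IsLocNoeth.isOpen_of_pairwiseDisjoint (hX : IsLocNoeth X)
    (h : (irreducibleComponents X).PairwiseDisjoint id) :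
    ∀ Z ∈ irreducibleComponents X, IsOpen Z := by
  intro Z hZ
  have h1 : Zᶜ = ⋃₀ (irreducibleComponents X \ {Z}) := by
    ext y
    constructor
    · exact fun hy => ⟨_, ⟨irreducibleComponent_mem_irreducibleComponents y,
        fun he => hy (he ▸ mem_irreducibleComponent)⟩, mem_irreducibleComponent⟩
    · rintro ⟨W, ⟨hW, hne⟩, hy⟩
      exact Set.disjoint_left.mp (h hW hZ hne) hy
  rw [← isClosed_compl_iff, h1]
  exact hX.isClosed_sUnion _ sdiff_subset

lemma eq_connectedComponent_of_isOpen (h : ∀ Z ∈ irreducibleComponents X, IsOpen Z)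
    {Z : Set X} (hZ : Z ∈ irreducibleComponents X) {x : X} (hx : x ∈ Z) :
    Z = connectedComponent x := by
  refine subset_antisymm (hZ.1.isConnected.subset_connectedComponent hx) ?_
  exact IsClopen.connectedComponent_subset
    ⟨isClosed_of_mem_irreducibleComponents Z hZ, h Z hZ⟩ hx

lemma pairwiseDisjoint_iff_unique :
    (irreducibleComponents X).PairwiseDisjoint id ↔
      ∀ x : X, ∀ Z ∈ irreducibleComponents X, ∀ W ∈ irreducibleComponents X,
        x ∈ Z → x ∈ W → Z = W := by
  constructor
  · intro h x Z hZ W hW hxZ hxW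
    by_contra hne
    exact Set.disjoint_left.mp (h hZ hW hne) hxZ hxW
  · intro h Z hZ W hW hne
    exact Set.disjoint_left.mpr fun x hxZ hxW => hne (h x Z hZ W hW hxZ hxW)

lemma IsLocNoeth.tfae (hX : IsLocNoeth X) :
    List.TFAE [∀ Z ∈ irreducibleComponents X, IsOpen Z,
      irreducibleComponents X = Set.range (connectedComponent : X → Set X),
      ∀ x : X, IsIrreducible (connectedComponent x),
      (irreducibleComponents X).PairwiseDisjoint id] := by
  tfae_have 1 → 2 := by
    intro h
    ext Z
    constructor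
    · intro hZ
      obtain ⟨x, hx⟩ := hZ.1.1
      exact ⟨x, (eq_connectedComponent_of_isOpen h hZ hx).symm⟩
    · rintro ⟨x, rfl⟩
      rw [← eq_connectedComponent_of_isOpen h (irreducibleComponent_mem_irreducibleComponents x)
        mem_irreducibleComponent]
      exact irreducibleComponent_mem_irreducibleComponents x
  tfae_have 2 → 3 := fun h x => (h.symm.le (Set.mem_range_self x)).1
  tfae_have 3 → 4 := by
    intro h
    rw [pairwiseDisjoint_iff_unique]
    intro x Z hZ W hW hxZ hxW
    have hZ' := hZ.1.isConnected.subset_connectedComponent hxZ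
    have hW' := hW.1.isConnected.subset_connectedComponent hxW
    exact (subset_antisymm hZ' (hZ.2 (h x) hZ')).trans
      (subset_antisymm hW' (hW.2 (h x) hW')).symm
  tfae_have 4 → 1 := hX.isOpen_of_pairwiseDisjoint
  tfae_finish

end GrothLib.LocNoeth

namespace GrothLib.LocNoeth

variable {X : Type u} [TopologicalSpace X]

lemma IsLocNoeth.noetherianSpace_of_isCompact (hX : IsLocNoeth X) {K : Set X} (hK : IsCompact K) :
    NoetherianSpace K := by
  choose U hU hxU hN using hX.exists_open
  obtain ⟨t, ht⟩ := hK.elim_finite_subcover U hU fun x _ => Set.mem_iUnion.mpr ⟨x, hxU x⟩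
  have : NoetherianSpace (⋃ x : t, U x.1 : Set X) :=
    haveI := fun x : t => hN x.1
    NoetherianSpace.iUnion _
  exact NoetherianSpace.of_subset (W := ⋃ x : t, U x.1) (fun y hy => by
    obtain ⟨x, hx, hy'⟩ := Set.mem_iUnion₂.mp (ht hy)
    exact Set.mem_iUnion.mpr ⟨⟨x, hx⟩, hy'⟩)

lemma IsLocNoeth.isCompact_of_subset (hX : IsLocNoeth X) {K s : Set X} (hK : IsCompact K)
    (hs : s ⊆ K) : IsCompact s := by
  have := hX.noetherianSpace_of_isCompact hK
  have := (NoetherianSpace.isCompact (Subtype.val ⁻¹' s : Set K)).image continuous_subtype_val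
  rwa [Subtype.image_preimage_coe, Set.inter_eq_right.mpr hs] at this

end GrothLib.LocNoeth
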